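import Cfsg.Agent.Lib.Helper28.BSGSPerm

/-!
# Conjugation certificates for the elements of a permutation group with a three-level chain

For every product of three transversal tables a packed certificate says that the element is the
identity, or that its cube moves a given point, or gives a word in a list of conjugating tables
which conjugates it to one of the target tables.
-/

set_option autoImplicit false

namespace Cfsg.Agent.Lib.Helper2.O73Cls

open Cfsg.Agent.Lib.Helper28.BSGS

theorem evalW_append (w : ℕ) (ws ws' : List ℕ) (a : ℕ) :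
    evalW w (ws ++ ws') a = evalW w ws (evalW w ws' a) := by
  unfold evalW
  rw [List.foldr_append]

theorem actsByW_append {n w : ℕ} {g h : Equiv.Perm (Fin n)} {ws ws' : List ℕ}
    (hg : ActsByW n w g ws) (hh : ActsByW n w h ws') : ActsByW n w (g * h) (ws ++ ws') := by
  intro a
  show (g (h a)).val = _
  rw [evalW_append, hg, hh]

/-- `d` digits in base 32 -/
def digits32 : ℕ → ℕ → List ℕ
  | 0, _ => []
  | d + 1, c => (c % 32) :: digits32 d (c / 32)

/-- the product of the conjugating tables with the given indices -/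
def cgProd (n w : ℕ) (cg : List (ℕ × ℕ)) (gs : List ℕ) : Equiv.Perm (Fin n) :=
  (gs.map fun k => permOf n w (cg.getD k (0, 0)).1 (cg.getD k (0, 0)).2).prod

/-- the group generated by the conjugating tables -/
def cgGroup (n w : ℕ) (cg : List (ℕ × ℕ)) : Subgroup (Equiv.Perm (Fin n)) :=
  Subgroup.closure {s | ∃ t ∈ cg, s = permOf n w t.1 t.2}

theorem look_zero (w a : ℕ) : look w 0 a = 0 := by
  unfold look
  simp

theorem permOf_zero (n w : ℕ) : permOf n w 0 0 = 1 := by
  unfold permOf
  by_cases h : pairOK n w 0 0 = true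
  · rw [dif_pos h]
    ext a
    have := (pairOK_spec h a.isLt).2.1
    rw [look_zero] at this
    show look w 0 a.val = a.val
    rw [look_zero]
    exact this
  · rw [dif_neg h]

theorem cgProd_mem (n w : ℕ) (cg : List (ℕ × ℕ)) (gs : List ℕ) :
    cgProd n w cg gs ∈ cgGroup n w cg := by
  unfold cgProd
  apply Subgroup.list_prod_mem
  intro x hx
  rw [List.mem_map] at hx
  obtain ⟨k, _, rfl⟩ := hx
  by_cases hk : k < cg.length
  · rw [List.getD_eq_getElem _ _ hk]
    exact Subgroup.subset_closure ⟨cg[k], List.getElem_mem hk, rfl⟩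
  · rw [List.getD_eq_default _ _ (by omega)]
    rw [permOf_zero]
    exact Subgroup.one_mem _

theorem actsByW_prodU {n w : ℕ} (ts : List (ℕ × ℕ)) (hts : ∀ t ∈ ts, pairOK n w t.1 t.2 = true) :
    ActsByW n w (ts.map fun t => permOf n w t.1 t.2).prod (ts.map Prod.fst) := by
  induction ts with
  | nil => exact actsByW_one n w
  | cons t r ih =>
    rw [List.map_cons, List.prod_cons, List.map_cons]
    exact actsByW_cons (permOf_apply (hts t List.mem_cons_self))
      (ih fun t' ht' => hts t' (List.mem_cons_of_mem _ ht'))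

theorem actsByW_prodV {n w : ℕ} (ts : List (ℕ × ℕ)) (hts : ∀ t ∈ ts, pairOK n w t.1 t.2 = true) :
    ActsByW n w ((ts.map fun t => permOf n w t.1 t.2).prod)⁻¹ (ts.reverse.map Prod.snd) := by
  induction ts with
  | nil =>
    rw [List.map_nil, List.prod_nil, inv_one]
    exact actsByW_one n w
  | cons t r ih =>
    rw [List.map_cons, List.prod_cons, _root_.mul_inv_rev, List.reverse_cons, List.map_append]
    exact actsByW_append (ih fun t' ht' => hts t' (List.mem_cons_of_mem _ ht'))
      (actsByW_single (permOf_inv_apply (hts t List.mem_cons_self)))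

/-- two words agree on the points of a list -/
def wordEqOn (w : ℕ) (bs : List ℕ) (ws ws' : List ℕ) : Bool :=
  bs.all fun a => evalW w ws a == evalW w ws' a

theorem eqOn_of_wordEqOn {n w : ℕ} [NeZero n] {bs : List ℕ} {g h : Equiv.Perm (Fin n)}
    {ws ws' : List ℕ} (hg : ActsByW n w g ws) (hh : ActsByW n w h ws')
    (he : wordEqOn w bs ws ws' = true) : ∀ b ∈ bs, b < n → g (pt n b) = h (pt n b) := by
  intro b hb hbn
  unfold wordEqOn at he
  rw [List.all_eq_true] at he
  apply Fin.ext
  rw [hg, hh, pt_val n hbn]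
  exact beq_iff_eq.mp (he b hb)

/-- the check of one element (given by the word `ws`) against the certificate `c`; the
conjugation equation is only checked on the points of `bs` -/
def chkElem (n w : ℕ) (bs : List ℕ) (cg tg : List (ℕ × ℕ)) (ws : List ℕ) (c : ℕ) : Bool :=
  if c % 4 = 0 then wordId n w ws
  else if c % 4 = 1 then
    decide ((c / 4) % 512 < n) && (evalW w (ws ++ (ws ++ ws)) ((c / 4) % 512) != (c / 4) % 512)
  else
    let gs := digits32 ((c / 64) % 16) (c / 1024)
    let ts := gs.map fun k => cg.getD k (0, 0)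
    gs.all (fun k => decide (k < cg.length)) && decide ((c / 4) % 16 < tg.length) &&
      wordEqOn w bs (ts.map Prod.fst ++ (ws ++ ts.reverse.map Prod.snd))
        [(tg.getD ((c / 4) % 16) (0, 0)).1]

/-- the statement certified for one element -/
def Good (n w : ℕ) [NeZero n] (bs : List ℕ) (cg tg : List (ℕ × ℕ)) (x : Equiv.Perm (Fin n)) :
    Prop :=
  x ^ 3 = 1 → x ≠ 1 → ∃ g ∈ cgGroup n w cg, ∃ t ∈ tg,
    ∀ b ∈ bs, b < n → (g * x * g⁻¹) (pt n b) = permOf n w t.1 t.2 (pt n b)

theorem chkElem_sound {n w : ℕ} [NeZero n] {bs : List ℕ} {cg tg : List (ℕ × ℕ)}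
    (hcg : ∀ t ∈ cg, pairOK n w t.1 t.2 = true) (htg : ∀ t ∈ tg, pairOK n w t.1 t.2 = true)
    {x : Equiv.Perm (Fin n)} {ws : List ℕ} (hx : ActsByW n w x ws) {c : ℕ}
    (h : chkElem n w bs cg tg ws c = true) : Good n w bs cg tg x := by
  intro h3 h1
  unfold chkElem at h
  by_cases c0 : c % 4 = 0
  · rw [if_pos c0] at h
    exact absurd (eq_one_of_wordId n w hx h) h1
  · rw [if_neg c0] at h
    by_cases c1 : c % 4 = 1
    · rw [if_pos c1, Bool.and_eq_true, decide_eq_true_eq] at h
      obtain ⟨ha, hne⟩ := h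
      exfalso
      have hx3 : ActsByW n w (x ^ 3) (ws ++ (ws ++ ws)) := by
        have : x ^ 3 = x * (x * x) := by rw [pow_succ, pow_two, mul_assoc]
        rw [this]
        exact actsByW_append hx (actsByW_append hx hx)
      have := hx3 ⟨_, ha⟩
      rw [h3] at this
      simp only [Equiv.Perm.coe_one, id_eq] at this
      rw [← this] at hne
      simp at hne
    · rw [if_neg c1] at h
      simp only [Bool.and_eq_true, decide_eq_true_eq, List.all_eq_true] at h
      obtain ⟨⟨hgs, hi⟩, heq⟩ := h
      set gs := digits32 ((c / 64) % 16) (c / 1024) with hgs_def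
      set ts := gs.map fun k => cg.getD k (0, 0) with hts_def
      have hts : ∀ t ∈ ts, pairOK n w t.1 t.2 = true := by
        intro t ht
        rw [hts_def, List.mem_map] at ht
        obtain ⟨k, hk, rfl⟩ := ht
        have hk' := hgs k hk
        rw [List.getD_eq_getElem _ _ hk']
        exact hcg _ (List.getElem_mem hk')
      have hmem : (ts.map fun t => permOf n w t.1 t.2).prod ∈ cgGroup n w cg := by
        apply Subgroup.list_prod_mem
        intro y hy
        rw [List.mem_map] at hy
        obtain ⟨t, ht, rfl⟩ := hy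
        rw [hts_def, List.mem_map] at ht
        obtain ⟨k, hk, rfl⟩ := ht
        have hk' := hgs k hk
        rw [List.getD_eq_getElem _ _ hk']
        exact Subgroup.subset_closure ⟨cg[k], List.getElem_mem hk', rfl⟩
      refine ⟨_, hmem, tg[(c / 4) % 16], List.getElem_mem hi, ?_⟩
      have hact : ActsByW n w ((ts.map fun t => permOf n w t.1 t.2).prod * x *
          ((ts.map fun t => permOf n w t.1 t.2).prod)⁻¹)
          (ts.map Prod.fst ++ (ws ++ ts.reverse.map Prod.snd)) := by
        rw [mul_assoc]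
        exact actsByW_append (actsByW_prodU ts hts) (actsByW_append hx (actsByW_prodV ts hts))
      rw [List.getD_eq_getElem _ _ hi] at heq
      exact eqOn_of_wordEqOn hact
        (actsByW_single (permOf_apply (htg _ (List.getElem_mem hi)))) heq

/-- the third loop -/
def chkL3 (n w : ℕ) (bs : List ℕ) (cg tg : List (ℕ × ℕ)) (t1 t2 : ℕ) : List Entry → ℕ → Bool
  | [], _ => true
  | e3 :: r, c => chkElem n w bs cg tg [t1, t2, e3.2.1] (c % 2 ^ 64) &&
      chkL3 n w bs cg tg t1 t2 r (c / 2 ^ 64)

/-- the second loop -/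
def chkL2 (n w : ℕ) (bs : List ℕ) (cg tg : List (ℕ × ℕ)) (t1 : ℕ) (T3 : List Entry) : List Entry → ℕ → Bool
  | [], _ => true
  | e2 :: r, c => chkL3 n w bs cg tg t1 e2.2.1 T3 (c % 2 ^ (64 * T3.length)) &&
      chkL2 n w bs cg tg t1 T3 r (c / 2 ^ (64 * T3.length))

/-- the first loop: one packed certificate for every entry of the first transversal -/
def chkL1 (n w : ℕ) (bs : List ℕ) (cg tg : List (ℕ × ℕ)) (T2 T3 : List Entry) : List Entry → List ℕ → Bool
  | [], _ => true
  | _ :: _, [] => false
  | e1 :: r, c :: cs => chkL2 n w bs cg tg e1.2.1 T3 T2 c && chkL1 n w bs cg tg T2 T3 r cs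

theorem chkL3_sound {n w : ℕ} {bs : List ℕ} {cg tg : List (ℕ × ℕ)} {t1 t2 : ℕ} :
    ∀ (T3 : List Entry) (c : ℕ), chkL3 n w bs cg tg t1 t2 T3 c = true →
      ∀ e3 ∈ T3, ∃ c', chkElem n w bs cg tg [t1, t2, e3.2.1] c' = true := by
  intro T3
  induction T3 with
  | nil => intro c _ e3 he3; simp at he3
  | cons e r ih =>
    intro c h e3 he3
    unfold chkL3 at h
    rw [Bool.and_eq_true] at h
    rcases List.mem_cons.mp he3 with rfl | he3'
    · exact ⟨_, h.1⟩
    · exact ih _ h.2 e3 he3'

theorem chkL2_sound {n w : ℕ} {bs : List ℕ} {cg tg : List (ℕ × ℕ)} {t1 : ℕ} {T3 : List Entry} :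
    ∀ (T2 : List Entry) (c : ℕ), chkL2 n w bs cg tg t1 T3 T2 c = true →
      ∀ e2 ∈ T2, ∀ e3 ∈ T3, ∃ c', chkElem n w bs cg tg [t1, e2.2.1, e3.2.1] c' = true := by
  intro T2
  induction T2 with
  | nil => intro c _ e2 he2; simp at he2
  | cons e r ih =>
    intro c h e2 he2
    unfold chkL2 at h
    rw [Bool.and_eq_true] at h
    rcases List.mem_cons.mp he2 with rfl | he2'
    · exact chkL3_sound T3 _ h.1
    · exact ih _ h.2 e2 he2'

theorem chkL1_sound {n w : ℕ} {bs : List ℕ} {cg tg : List (ℕ × ℕ)} {T2 T3 : List Entry} :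
    ∀ (T1 : List Entry) (cs : List ℕ), chkL1 n w bs cg tg T2 T3 T1 cs = true →
      ∀ e1 ∈ T1, ∀ e2 ∈ T2, ∀ e3 ∈ T3,
        ∃ c', chkElem n w bs cg tg [e1.2.1, e2.2.1, e3.2.1] c' = true := by
  intro T1
  induction T1 with
  | nil => intro cs _ e1 he1; simp at he1
  | cons e r ih =>
    intro cs h e1 he1
    cases cs with
    | nil => simp [chkL1] at h
    | cons c cs =>
      unfold chkL1 at h
      rw [Bool.and_eq_true] at h
      rcases List.mem_cons.mp he1 with rfl | he1'
      · exact chkL2_sound T2 _ h.1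
      · exact ih _ h.2 e1 he1'

/-- the certified statement for all products of three transversal elements -/
theorem good_of_chk {n w : ℕ} [NeZero n] {bs : List ℕ} {cg tg : List (ℕ × ℕ)} {T1 T2 T3 : List Entry}
    (hcg : ∀ t ∈ cg, pairOK n w t.1 t.2 = true) (htg : ∀ t ∈ tg, pairOK n w t.1 t.2 = true)
    (h : ∀ e1 ∈ T1, ∀ e2 ∈ T2, ∀ e3 ∈ T3,
      ∃ c', chkElem n w bs cg tg [e1.2.1, e2.2.1, e3.2.1] c' = true)
    (e1 e2 e3 : Entry) (he1 : e1 ∈ T1) (he2 : e2 ∈ T2) (he3 : e3 ∈ T3)
    (h1 : pairOK n w e1.2.1 e1.2.2 = true) (h2 : pairOK n w e2.2.1 e2.2.2 = true)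
    (h3 : pairOK n w e3.2.1 e3.2.2 = true) :
    Good n w bs cg tg (permOf n w e1.2.1 e1.2.2 * permOf n w e2.2.1 e2.2.2 *
      permOf n w e3.2.1 e3.2.2) := by
  obtain ⟨c', hc'⟩ := h e1 he1 e2 he2 e3 he3
  refine chkElem_sound hcg htg ?_ hc'
  rw [mul_assoc]
  exact actsByW_cons (permOf_apply h1) (actsByW_cons (permOf_apply h2)
    (actsByW_single (permOf_apply h3)))

/-- every member of a list lies in one of its consecutive chunks -/
theorem mem_chunks {α : Type*} (l : List α) (c m : ℕ) (hc : 0 < c) (h : l.length ≤ c * m) (e : α)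
    (he : e ∈ l) : ∃ k < m, e ∈ (l.drop (c * k)).take c := by
  obtain ⟨i, hi, rfl⟩ := List.getElem_of_mem he
  have h1 : c * (i / c) + i % c = i := Nat.div_add_mod i c
  have h2 : i % c < c := Nat.mod_lt i hc
  refine ⟨i / c, ?_, ?_⟩
  · by_contra hk
    have h3 : m ≤ i / c := Nat.le_of_not_lt hk
    have h4 : c * m ≤ c * (i / c) := Nat.mul_le_mul_left c h3
    omega
  · have hlen : i % c < ((l.drop (c * (i / c))).take c).length := by
      rw [List.length_take, List.length_drop]
      omega
    have : ((l.drop (c * (i / c))).take c)[i % c]'hlen = l[i] := by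
      rw [List.getElem_take, List.getElem_drop]
      congr 1
    rw [← this]
    exact List.getElem_mem hlen

end Cfsg.Agent.Lib.Helper2.O73Cls
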