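import Cfsg.Agent.Lib.Helper2.O73Cls.O73UData
import Cfsg.Agent.Lib.Helper11.IcoChunk

set_option autoImplicit false
set_option maxRecDepth 100000
set_option maxHeartbeats 0

namespace Cfsg.Agent.Lib.Helper2.O73Cls.UD

open Cfsg.Agent.Lib.Helper28.BSGS Cfsg.Agent.Lib.Helper11.Ico

theorem sift0_1 : (tr0.all fun e => siftB 364 9 rest0 [(gens.getD 1 (0, 0)).1, e.2.1]) = true := by decide +kernel

end Cfsg.Agent.Lib.Helper2.O73Cls.UD
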