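import Cfsg.Agent.Lib.Helper2.O73Cls.Words
import Cfsg.Agent.Lib.Helper2.O73Cls.Cert0
import Cfsg.Agent.Lib.Helper2.O73Cls.Cert1
import Cfsg.Agent.Lib.Helper2.O73Cls.Cert2
import Cfsg.Agent.Lib.Helper2.O73Cls.Cert3
import Cfsg.Agent.Lib.Helper2.O73Cls.Cert4
import Cfsg.Agent.Lib.Helper2.O73Cls.Cert5
import Cfsg.Agent.Lib.Helper2.O73Cls.Cert6
import Cfsg.Agent.Lib.Helper2.O73Cls.Cert7
import Cfsg.Agent.Lib.Helper2.O73Cls.Cert8
import Cfsg.Agent.Lib.Helper2.O73Cls.O73UCert
import Cfsg.Agent.Lib.Helper9.O73ClsA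
import Cfsg.Agent.Lib.Helper29.O73ClsB
import Cfsg.Agent.Lib.Helper4.TC.O73Iso

/-!
# The seven classes of subgroups of order three of the simple orthogonal group of degree 7 over
the field with three elements
-/

set_option autoImplicit false
set_option maxRecDepth 100000

namespace Cfsg.Agent.Lib.Helper2.O73Cls

open Cfsg.Agent.Helper4.TC Cfsg.Agent.Lib.Helper28.BSGS

theorem cg_ok : tabWordsOK Dat.cg Dat.cgw = true := by decide +kernel

theorem ug_ok : tabWordsOK UD.gens Dat.uw = true := by decide +kernel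

theorem ty_ok : tabWordsOK Dat.ty Dat.yw = true := by decide +kernel

theorem ty3_ok : (Dat.ty.all fun t => wordId 364 9 [t.1, t.1, t.1]) = true := by decide +kernel

/-- the fixed point numbers of the `i`-th representative -/
def valOK (i : ℕ) : Bool :=
  (((List.range 364).filter fun a => evalW 9 (tabs Dat.g364 (Dat.yw.getD i [])) a == a).length ==
    (Dat.vals.getD i (0, 0)).1) &&
  (((List.range 1080).filter fun a => evalW 11 (tabs Dat.g1080 (Dat.yw.getD i [])) a == a).length ==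
    (Dat.vals.getD i (0, 0)).2)

theorem vals_ok : (List.range 7).all valOK = true := by decide +kernel

theorem tabWordsOK_get : ∀ (ts : List (ℕ × ℕ)) (wss : List (List ℕ)),
    tabWordsOK ts wss = true → ∀ i, i < ts.length →
      tabWordOK (ts.getD i (0, 0)) (wss.getD i []) = true := by
  intro ts
  induction ts with
  | nil => intro wss _ i hi; simp at hi
  | cons t0 ts ih =>
    intro wss h i hi
    cases wss with
    | nil => simp [tabWordsOK] at h
    | cons ws wss =>
      unfold tabWordsOK at h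
      rw [Bool.and_eq_true] at h
      cases i with
      | zero => exact h.1
      | succ i =>
        simp only [List.getD_cons_succ]
        exact ih wss h.2 i (by simpa using hi)

/-- the representatives -/
def y (i : Fin 7) : P := wP (Dat.yw.getD i.val [])

theorem ty_length : Dat.ty.length = 7 := by decide

theorem yw_lt (i : Fin 7) : ∀ k ∈ Dat.yw.getD i.val [], k < 8 := by
  have h := tabWordsOK_get _ _ ty_ok i.val (by rw [ty_length]; exact i.isLt)
  unfold tabWordOK at h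
  simp only [Bool.and_eq_true, List.all_eq_true, decide_eq_true_eq] at h
  exact h.1.1

theorem ψ_y (i : Fin 7) :
    pairOK 364 9 (Dat.ty.getD i.val (0, 0)).1 (Dat.ty.getD i.val (0, 0)).2 = true ∧
    permOf 364 9 (Dat.ty.getD i.val (0, 0)).1 (Dat.ty.getD i.val (0, 0)).2 = ψ (y i) :=
  permOf_eq_ψ_wP (tabWordsOK_get _ _ ty_ok i.val (by rw [ty_length]; exact i.isLt))

theorem fixCount_one (n : ℕ) : fixCount (1 : Equiv.Perm (Fin n)) = n := by
  unfold fixCount
  simp

/-- the invariant: numbers of fixed points in the two representations -/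
noncomputable def inv2 (ρ : P →* Equiv.Perm (Fin 1080)) (p : P) : ℕ × ℕ :=
  (fixCount (ψ p), fixCount (ρ p))

theorem inv2_conj (ρ : P →* Equiv.Perm (Fin 1080)) (g x : P) :
    inv2 ρ (g * x * g⁻¹) = inv2 ρ x := by
  unfold inv2
  rw [map_mul, map_mul, map_inv, map_mul, map_mul, map_inv, fixCount_conj, fixCount_conj]

theorem inv2_inv (ρ : P →* Equiv.Perm (Fin 1080)) (x : P) : inv2 ρ x⁻¹ = inv2 ρ x := by
  unfold inv2
  rw [map_inv, map_inv, fixCount_inv, fixCount_inv]

theorem inv2_y (ρ : P →* Equiv.Perm (Fin 1080))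
    (hρ : ∀ x, ρ (PresentedGroup.of x) = permOf 1080 11 (T1080 x).1 (T1080 x).2) (i : Fin 7) :
    inv2 ρ (y i) = Dat.vals.getD i.val (0, 0) := by
  have h := vals_ok
  rw [List.all_eq_true] at h
  have hi := h i.val (List.mem_range.mpr i.isLt)
  unfold valOK at hi
  simp only [Bool.and_eq_true, beq_iff_eq] at hi
  unfold inv2
  have h1 := fixCount_eq_of_acts (ψ_wP_acts (Dat.yw.getD i.val []) (yw_lt i))
  have h2 := fixCount_eq_of_acts (hom_wP_acts ρ T1080 Dat.g1080 hρ T1080_ok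
    (fun _ hk => T1080_gen hk) (Dat.yw.getD i.val []) (yw_lt i))
  unfold y
  rw [h1, h2, hi.1, hi.2]

theorem vals_inj : ∀ i j : Fin 7, Dat.vals.getD i.val (0, 0) = Dat.vals.getD j.val (0, 0) → i = j := by
  decide

theorem vals_ne : ∀ i : Fin 7, Dat.vals.getD i.val (0, 0) ≠ (364, 1080) := by
  decide

theorem cg_pair : ∀ t ∈ Dat.cg, pairOK 364 9 t.1 t.2 = true :=
  fun t ht => (mem_range_of_tabWordsOK _ _ cg_ok t ht).1

theorem ty_pair : ∀ t ∈ Dat.ty, pairOK 364 9 t.1 t.2 = true :=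
  fun t ht => (mem_range_of_tabWordsOK _ _ ty_ok t ht).1

theorem cgGroup_le : cgGroup 364 9 Dat.cg ≤ ψ.range := by
  unfold cgGroup
  rw [Subgroup.closure_le]
  rintro s ⟨t, ht, rfl⟩
  obtain ⟨_, ws, _, h⟩ := mem_range_of_tabWordsOK _ _ cg_ok t ht
  exact ⟨wP ws, h.symm⟩

theorem U_le : genGroup 364 9 UD.gens ≤ ψ.range := by
  unfold genGroup
  rw [Subgroup.closure_le]
  intro s hs
  have hs' : s ∈ semGens 364 9 UD.gens := hs
  unfold semGens at hs'
  rw [List.mem_map] at hs'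
  obtain ⟨t, ht, rfl⟩ := hs'
  obtain ⟨_, ws, _, h⟩ := mem_range_of_tabWordsOK _ _ ug_ok t ht
  exact ⟨wP ws, h.symm⟩

theorem chk_all : ∀ e1 ∈ UD.tr0, ∀ e2 ∈ UD.tr1, ∀ e3 ∈ UD.tr2,
    ∃ c', chkElem 364 9 Dat.bs Dat.cg Dat.ty [e1.2.1, e2.2.1, e3.2.1] c' = true := by
  intro e1 he1
  obtain ⟨k, hk, hmem⟩ := mem_chunks UD.tr0 27 9 (by norm_num) (by decide) e1 he1
  interval_cases k
  · exact chkL1_sound _ _ Dat.chunk0 e1 hmem
  · exact chkL1_sound _ _ Dat.chunk1 e1 hmem
  · exact chkL1_sound _ _ Dat.chunk2 e1 hmem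
  · exact chkL1_sound _ _ Dat.chunk3 e1 hmem
  · exact chkL1_sound _ _ Dat.chunk4 e1 hmem
  · exact chkL1_sound _ _ Dat.chunk5 e1 hmem
  · exact chkL1_sound _ _ Dat.chunk6 e1 hmem
  · exact chkL1_sound _ _ Dat.chunk7 e1 hmem
  · exact chkL1_sound _ _ Dat.chunk8 e1 hmem

/-- every element of order three of the Sylow subgroup is conjugate to a representative -/
theorem conj_rep (x : P) (hx : ψ x ∈ genGroup 364 9 UD.gens) (h3 : x ^ 3 = 1) (h1 : x ≠ 1) :
    ∃ i : Fin 7, ∃ g : P, g * x * g⁻¹ = y i := by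
  obtain ⟨e1, he1, e2, he2, e3, he3, p1, p2, p3, hz⟩ :=
    three_level_decomp 364 9 UD.gens 0 UD.tr0 1 UD.tr1 2 UD.tr2 UD.gens_ok UD.chain_ok (ψ x) hx
  have hgood := good_of_chk cg_pair ty_pair chk_all e1 e2 e3 he1 he2 he3 p1 p2 p3
  rw [← hz] at hgood
  obtain ⟨g, hg, t, ht, hb⟩ := hgood (by rw [← map_pow, h3, map_one])
    (fun h => h1 (ψ_injective (h.trans (map_one ψ).symm)))
  obtain ⟨g0, rfl⟩ := cgGroup_le hg
  obtain ⟨i, hi, rfl⟩ := List.getElem_of_mem ht
  rw [ty_length] at hi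
  refine ⟨⟨i, hi⟩, g0, ?_⟩
  have hyi := (ψ_y ⟨i, hi⟩).2
  rw [List.getD_eq_getElem _ _ (by rw [ty_length]; exact hi)] at hyi
  have key : (y ⟨i, hi⟩)⁻¹ * (g0 * x * g0⁻¹) = 1 := by
    apply base_P
    intro b hbm
    have hlt : b < 364 := by
      revert b
      decide
    have := hb b hbm hlt
    rw [hyi] at this
    rw [map_mul, map_inv, Equiv.Perm.mul_apply, map_mul, map_mul, map_inv, this]
    exact Equiv.symm_apply_apply _ _
  exact (inv_mul_eq_one.mp key).symm

theorem y_spec (ρ : P →* Equiv.Perm (Fin 1080))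
    (hρ : ∀ x, ρ (PresentedGroup.of x) = permOf 1080 11 (T1080 x).1 (T1080 x).2) (i : Fin 7) :
    y i ≠ 1 ∧ y i ^ 3 = 1 := by
  constructor
  · intro h
    have h1 := inv2_y ρ hρ i
    rw [h] at h1
    unfold inv2 at h1
    rw [map_one, map_one, fixCount_one, fixCount_one] at h1
    exact vals_ne i h1.symm
  · apply ψ_injective
    rw [map_pow, map_one, ← (ψ_y i).2]
    have h := ty3_ok
    rw [List.all_eq_true] at h
    have hmem : Dat.ty.getD i.val (0, 0) ∈ Dat.ty := by
      rw [List.getD_eq_getElem _ _ (by rw [ty_length]; exact i.isLt)]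
      exact List.getElem_mem _
    exact eq_one_of_wordId 364 9 (actsByW_pow 364 9 (permOf_apply (ψ_y i).1) 3) (h _ hmem)

/-- **the presented group has exactly seven classes of subgroups of order three** -/
theorem cls3_P : Cls3 P := by
  obtain ⟨ρ, hρ⟩ := exists_rho
  haveI : Finite P := O73PS.card_top.1
  have hcardP : Nat.card P = 4585351680 := O73PS.main.2
  have hUcard : Nat.card ((genGroup 364 9 UD.gens).comap ψ) = 3 ^ 9 := by
    rw [← Subgroup.card_map_of_injective ψ_injective, Subgroup.map_comap_eq_self U_le,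
      UD.card_genGroup]
    norm_num
  refine cls3_of ((genGroup 364 9 UD.gens).comap ψ) hUcard (by rw [hcardP]; norm_num)
    (inv2 ρ) (inv2_conj ρ) (inv2_inv ρ) y (y_spec ρ hρ) ?_ ?_
  · intro i j h
    rw [inv2_y ρ hρ, inv2_y ρ hρ] at h
    exact vals_inj i j h
  · intro x hx h3 h1
    obtain ⟨i, g, hg⟩ := conj_rep x hx h3 h1
    exact ⟨i, g, Or.inl hg⟩

/-- **the simple orthogonal group has exactly seven classes of subgroups of order three** -/
theorem cls3_PO7 : Cls3 (Cfsg.POmega (ZMod 3) (Cfsg.quadFormOdd 3 (ZMod 3))) := by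
  obtain ⟨e⟩ := O73Iso.iso
  exact Cls3.of_equiv e cls3_P

end Cfsg.Agent.Lib.Helper2.O73Cls
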