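import Cfsg.Agent.Lib.Helper4.TC.O73PSMain
import Cfsg.Agent.Lib.Helper2.O73Cls.Data

/-!
# The permutation representation on 364 points of the presented group of order 4585351680

helper4's model homomorphism, its values on the generators as tables of helper28's format, and the
base property: an element fixing the six base points of helper4's chain is trivial.
-/

set_option autoImplicit false
set_option maxRecDepth 100000

namespace Cfsg.Agent.Lib.Helper2.O73Cls

open Cfsg.Agent.Helper4.TC Cfsg.Agent.Lib.Helper28.BSGS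

abbrev Gen : Type := Cfsg.Agent.Helper4.Pres.O73.Gen

abbrev P : Type := PresentedGroup O73PE6a.Rset

/-- index of a generator -/
def idx : Gen → ℕ
  | .b => 0 | .c => 1 | .d => 2 | .e => 3 | .f => 4 | .g => 5 | .h => 6 | .i => 7

/-- the generator with a given index -/
def gen : ℕ → Gen
  | 0 => .b | 1 => .c | 2 => .d | 3 => .e | 4 => .f | 5 => .g | 6 => .h | _ => .i

theorem idx_gen {k : ℕ} (hk : k < 8) : idx (gen k) = k := by
  interval_cases k <;> rfl

/-- the tables of the generators on 364 points -/
def T364 (x : Gen) : ℕ × ℕ := Dat.g364.getD (idx x) (0, 0)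

theorem T364_gen {k : ℕ} (hk : k < 8) : T364 (gen k) = Dat.g364.getD k (0, 0) := by
  unfold T364
  rw [idx_gen hk]

/-- helper4's permutation representation -/
noncomputable def ψ : P →* Equiv.Perm (Fin 364) :=
  modelHom O73PE6a.coding O73PE6a.hR1 O73PE6a.model_ok

theorem g364_ok : gensOK 364 9 Dat.g364 = true := by decide +kernel

theorem T364_ok (x : Gen) : pairOK 364 9 (T364 x).1 (T364 x).2 = true := by
  apply gensOK_spec 364 9 g364_ok
  unfold T364
  cases x <;> decide

theorem at_eq_look : ∀ c : ℕ, c < 8 → ∀ k : ℕ, k < 364 →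
    O73PE6a.mdata.at (2 * c) k = look 9 (Dat.g364.getD c (0, 0)).1 k := by
  have h : ((List.range 8).all fun c => (List.range 364).all fun k =>
      O73PE6a.mdata.at (2 * c) k == look 9 (Dat.g364.getD c (0, 0)).1 k) = true := by
    decide +kernel
  intro c hc k hk
  rw [List.all_eq_true] at h
  have h1 := h c (List.mem_range.mpr hc)
  rw [List.all_eq_true] at h1
  exact beq_iff_eq.mp (h1 k (List.mem_range.mpr hk))

theorem enc_eq (x : Gen) : O73PE6a.enc x = 2 * idx x := by
  cases x <;> rfl

theorem of_eq_mk (x : Gen) :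
    (PresentedGroup.of x : P) = PresentedGroup.mk O73PE6a.Rset (wordF O73PE6a.dec [O73PE6a.enc x]) := by
  unfold wordF
  have : O73PE6a.dec (O73PE6a.enc x) = (x, true) := O73PE6a.coding.dec_enc x
  simp only [List.map_cons, List.map_nil, List.reverse_cons, List.reverse_nil, List.nil_append]
  rw [this]
  rfl

theorem ψ_of (x : Gen) : ψ (PresentedGroup.of x) = permOf 364 9 (T364 x).1 (T364 x).2 := by
  apply Equiv.ext
  intro k
  apply Fin.ext
  rw [permOf_apply (T364_ok x), of_eq_mk]
  have h := modelHom_word O73PE6a.coding O73PE6a.hR1 O73PE6a.model_ok [O73PE6a.enc x]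
    (by
      intro c hc
      rw [List.mem_singleton] at hc
      rw [hc]
      exact O73PE6a.coding.enc_lt x) k
  refine h.trans ?_
  rw [mtrace_cons, mtrace_nil, enc_eq]
  unfold T364
  have hi : idx x < 8 := by cases x <;> decide
  exact at_eq_look (idx x) hi k.val k.isLt

/-- an element fixing the six base points is trivial -/
theorem base_P (g : P) (hg : ∀ b ∈ Dat.bs, ψ g (pt 364 b) = pt 364 b) : g = 1 := by
  have hm := O73PE6a.model_ok
  set φ := modelHom O73PE6a.coding O73PE6a.hR1 hm with hφ
  have hx0 : mkPt hm 0 = ⟨0, hm.npos⟩ := mkPt_of_lt hm 0 hm.npos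
  have hchain : ChainOK φ.range
      ((⟨0, hm.npos⟩, O73PE6a.mdata.n) :: O73PS.specs.map fun s => (mkPt hm s.b, s.d.cnt)) := by
    refine ⟨⟨Set.univ, by rw [Set.ncard_univ, Nat.card_fin], fun y _ => ?_⟩, ?_⟩
    · obtain ⟨g, hg⟩ := modelHom_trans O73PE6a.coding O73PE6a.hR1 hm y
      exact ⟨_, ⟨g, rfl⟩, hg⟩
    · have := chainOK_of_levels O73PE6a.coding O73PE6a.hR1 hm O73PS.specs [0]
        (by simpa using hm.npos) O73PS.levels_ok
      rw [List.map_cons, List.map_nil, ← fixSub_cons, fixSub_nil, hx0] at this
      exact this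
  refine eq_one_of_fixes_base φ 4585351680 (by norm_num) O73PS.card_top _ hchain ?_ g ?_
  · rw [List.map_cons, List.prod_cons, List.map_map]
    show O73PE6a.mdata.n * (O73PS.specs.map fun s => s.d.cnt).prod = 4585351680
    decide
  · intro bn hbn
    simp only [O73PS.specs, List.map_cons, List.map_nil, List.mem_cons, List.not_mem_nil,
      or_false] at hbn
    rcases hbn with rfl | rfl | rfl | rfl | rfl | rfl
    · exact hg 0 (by decide)
    · exact hg 1 (by decide)
    · exact hg 20 (by decide)
    · exact hg 34 (by decide)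
    · exact hg 33 (by decide)
    · exact hg 2 (by decide)

theorem ψ_injective : Function.Injective ψ := by
  rw [injective_iff_map_eq_one]
  intro g hg
  apply base_P
  intro b _
  rw [hg]
  rfl

end Cfsg.Agent.Lib.Helper2.O73Cls
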