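import Cfsg.Agent.Lib.Helper2.O73Cls.O73UData
import Cfsg.Agent.Lib.Helper11.IcoChunk

set_option autoImplicit false
set_option maxRecDepth 100000
set_option maxHeartbeats 0

namespace Cfsg.Agent.Lib.Helper2.O73Cls.UD

open Cfsg.Agent.Lib.Helper28.BSGS Cfsg.Agent.Lib.Helper11.Ico

theorem gens_ok : gensOK 364 9 gens = true := by decide +kernel

theorem size_ok : codeSize levels = 19683 := by decide +kernel

theorem gens_length : gens.length = 5 := by decide +kernel

theorem nextGens0 : nextGens 9 gens 0 = gens.drop 3 := by decide +kernel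

theorem l0_static : (decide ((0 : ℕ) < 364) && headOK 364 9 0 tr0 && tr0.all (entryOK 364 9 0) &&
    nodupB (tr0.map fun e => e.1) &&
    orbitOK 9 gens [0] ((tr0.map fun e => e.1).tail)) = true := by decide +kernel

/-- the tail of the chain, checked in one go -/
theorem chain1_ok : checkChain 364 9 (gens.drop 3) rest1 = true := by decide +kernel

end Cfsg.Agent.Lib.Helper2.O73Cls.UD
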