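import Cfsg.Agent.Lib.Helper2.O73Cls.Model
import Cfsg.Agent.Lib.Helper2.O73Cls.Chk
import Cfsg.Agent.Lib.Helper15.O73ClsC
import Cfsg.Agent.Lib.Helper15.O73ClsD

/-!
# Words in the eight generators, and the second permutation representation (on 1080 points)
-/

set_option autoImplicit false
set_option maxRecDepth 100000

namespace Cfsg.Agent.Lib.Helper2.O73Cls

open Cfsg.Agent.Helper4.TC Cfsg.Agent.Lib.Helper28.BSGS

/-- the element of the presented group given by a word of generator indices -/
def wP (ws : List ℕ) : P := (ws.map fun k => (PresentedGroup.of (gen k) : P)).prod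

/-- the tables of the generators on 1080 points -/
def T1080 (x : Gen) : ℕ × ℕ := Dat.g1080.getD (idx x) (0, 0)

theorem T1080_gen {k : ℕ} (hk : k < 8) : T1080 (gen k) = Dat.g1080.getD k (0, 0) := by
  unfold T1080
  rw [idx_gen hk]

theorem g1080_ok : gensOK 1080 11 Dat.g1080 = true := by decide +kernel

theorem T1080_ok (x : Gen) : pairOK 1080 11 (T1080 x).1 (T1080 x).2 = true := by
  apply gensOK_spec 1080 11 g1080_ok
  unfold T1080
  cases x <;> decide

theorem rel1080 : (O73PE6a.bases.all fun b => wordId 1080 11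
    ((b.map O73PE6a.dec).reverse.map fun l => if l.2 then (T1080 l.1).1 else (T1080 l.1).2)) = true := by
  decide +kernel

/-- the second permutation representation -/
theorem exists_rho : ∃ ρ : P →* Equiv.Perm (Fin 1080),
    ∀ x, ρ (PresentedGroup.of x) = permOf 1080 11 (T1080 x).1 (T1080 x).2 := by
  refine exists_hom_perm O73PE6a.Rset O73PE6a.dec O73PE6a.bases O73PE6a.hR1 1080 11 T1080 T1080_ok ?_
  intro b hb
  have h := rel1080
  rw [List.all_eq_true] at h
  exact h b hb

/-- the word of tables of a word of generator indices -/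
def tabs (g : List (ℕ × ℕ)) (ws : List ℕ) : List ℕ := ws.map fun k => (g.getD k (0, 0)).1

theorem hom_wP_acts {n w : ℕ} (φ : P →* Equiv.Perm (Fin n)) (T : Gen → ℕ × ℕ) (g : List (ℕ × ℕ))
    (hφ : ∀ x, φ (PresentedGroup.of x) = permOf n w (T x).1 (T x).2)
    (hT : ∀ x, pairOK n w (T x).1 (T x).2 = true)
    (hg : ∀ k, k < 8 → T (gen k) = g.getD k (0, 0)) (ws : List ℕ) (hws : ∀ k ∈ ws, k < 8) :
    ActsByW n w (φ (wP ws)) (tabs g ws) := by
  induction ws with
  | nil =>
    unfold wP tabs
    rw [List.map_nil, List.prod_nil, map_one]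
    exact actsByW_one n w
  | cons k r ih =>
    have hk : k < 8 := hws k List.mem_cons_self
    have e : φ (wP (k :: r)) = φ (PresentedGroup.of (gen k)) * φ (wP r) := by
      unfold wP
      rw [List.map_cons, List.prod_cons, map_mul]
    rw [e, hφ]
    unfold tabs
    rw [List.map_cons]
    refine actsByW_cons ?_ (ih fun k' hk' => hws k' (List.mem_cons_of_mem _ hk'))
    rw [← hg k hk]
    exact permOf_apply (hT (gen k))

theorem ψ_wP_acts (ws : List ℕ) (hws : ∀ k ∈ ws, k < 8) :
    ActsByW 364 9 (ψ (wP ws)) (tabs Dat.g364 ws) :=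
  hom_wP_acts ψ T364 Dat.g364 ψ_of T364_ok (fun _ hk => T364_gen hk) ws hws

/-- a table which agrees with a word is the image of the word -/
def tabWordOK (t : ℕ × ℕ) (ws : List ℕ) : Bool :=
  ws.all (fun k => decide (k < 8)) && pairOK 364 9 t.1 t.2 && wordEq 364 9 [t.1] (tabs Dat.g364 ws)

theorem permOf_eq_ψ_wP {t : ℕ × ℕ} {ws : List ℕ} (h : tabWordOK t ws = true) :
    pairOK 364 9 t.1 t.2 = true ∧ permOf 364 9 t.1 t.2 = ψ (wP ws) := by
  unfold tabWordOK at h
  simp only [Bool.and_eq_true, List.all_eq_true, decide_eq_true_eq] at h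
  obtain ⟨⟨h1, h2⟩, h3⟩ := h
  exact ⟨h2, eq_of_wordEq 364 9 (actsByW_single (permOf_apply h2)) (ψ_wP_acts ws h1) h3⟩

/-- all tables of a list agree with the words of a second list -/
def tabWordsOK : List (ℕ × ℕ) → List (List ℕ) → Bool
  | [], _ => true
  | _ :: _, [] => false
  | t :: ts, ws :: wss => tabWordOK t ws && tabWordsOK ts wss

theorem mem_range_of_tabWordsOK : ∀ (ts : List (ℕ × ℕ)) (wss : List (List ℕ)),
    tabWordsOK ts wss = true → ∀ t ∈ ts, pairOK 364 9 t.1 t.2 = true ∧
      ∃ ws ∈ wss, permOf 364 9 t.1 t.2 = ψ (wP ws) := by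
  intro ts
  induction ts with
  | nil => intro wss _ t ht; simp at ht
  | cons t0 ts ih =>
    intro wss h t ht
    cases wss with
    | nil => simp [tabWordsOK] at h
    | cons ws wss =>
      unfold tabWordsOK at h
      rw [Bool.and_eq_true] at h
      rcases List.mem_cons.mp ht with rfl | ht'
      · obtain ⟨h1, h2⟩ := permOf_eq_ψ_wP h.1
        exact ⟨h1, ws, List.mem_cons_self, h2⟩
      · obtain ⟨h1, ws', hws', h2⟩ := ih wss h.2 t ht'
        exact ⟨h1, ws', List.mem_cons_of_mem _ hws', h2⟩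

end Cfsg.Agent.Lib.Helper2.O73Cls
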